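import Cfsg.Agent.Lib.Recog.G23.CharArith
import Cfsg.Agent.Lib.Block.PairTrick
import Cfsg.Agent.Lib.Char.Column

/-!
No group has an involution centraliser of order 576 which contains the centralisers of its
elements of order 3 in the way of `(SL_2(3) ∘ SL_2(3)).2`: the exceptional character case.
-/

set_option autoImplicit false
set_option linter.all false

namespace CfsgLib.Recog.G23

open Subgroup CfsgLib.Char CfsgLib.Block
open scoped ComplexConjugate

universe u

variable {G : Type u} [Group G]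

/-- The local hypotheses of the exceptional character case. -/
structure ExcData (z : G) (H P : Subgroup G) : Prop where
  z_ne : z ≠ 1
  z_sq : z * z = 1
  mem_H : ∀ g : G, g ∈ H ↔ g * z = z * g
  card_H : Nat.card H = 576
  P_le : P ≤ H
  card_P : Nat.card P = 9
  norm_P : normalizer (P : Set G) ≤ H
  cent : ∀ x ∈ H, x ^ 3 = 1 → x ≠ 1 → ∀ g : G, g * x = x * g → g ∈ H
  odd : ¬ 2 ∣ H.index
  seven : 7 ∣ Nat.card G
  conj_invol : ∀ u : G, u ≠ 1 → u * u = 1 → IsConj z u

open scoped Classical in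
/-- What is needed of the class function on the centraliser. -/
structure Theta (H : Subgroup G) [Fintype H] (θ : H → ℂ) : Prop where
  gen : Cfsg.IsGeneralizedCharacter H θ
  one : θ 1 = 0
  norm : Cfsg.classInner θ θ = 3
  inner_one : Cfsg.classInner θ (fun _ => 1) = 1
  supp : ∀ a : H, θ a ≠ 0 → 3 ∣ orderOf a
  pairs : ∑ s ∈ PairTrick.invol H, ∑ t ∈ PairTrick.invol H, θ (s * t) = 10368

namespace ExcData

variable {z : G} {H P : Subgroup G} (D : ExcData z H P) [Finite G]

include D

theorem comm_P {a b : G} (ha : a ∈ P) (hb : b ∈ P) : a * b = b * a := by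
  haveI : Fact (Nat.Prime 3) := ⟨by norm_num⟩
  have h := (IsPGroup.isMulCommutative_of_card_eq_prime_sq (p := 3)
    (G := P) (by rw [D.card_P]; norm_num)).is_comm.comm ⟨a, ha⟩ ⟨b, hb⟩
  exact congrArg Subtype.val h

theorem index_subgroupOf : (P.subgroupOf H).index = 64 := by
  have h := (P.subgroupOf H).index_mul_card
  rw [Nat.card_congr (subgroupOfEquivOfLe D.P_le).toEquiv, D.card_P, D.card_H] at h
  omega

/-- A subgroup of order 9 of `H` is conjugate to `P` in `H`. -/
theorem exists_conj {R : Subgroup G} (hR : R ≤ H) (hcard : Nat.card R = 9) :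
    ∃ k ∈ H, P.map (MulAut.conj k).toMonoidHom = R := by
  haveI : Fact (Nat.Prime 3) := ⟨by norm_num⟩
  have mk : ∀ S : Subgroup G, S ≤ H → Nat.card S = 9 → IsPGroup 3 (S.subgroupOf H) := fun S hS hc =>
    IsPGroup.of_card (n := 2) (by rw [Nat.card_congr (subgroupOfEquivOfLe hS).toEquiv, hc]; norm_num)
  let PS : Sylow 3 H := (mk P D.P_le D.card_P).toSylow (by rw [D.index_subgroupOf]; norm_num)
  obtain ⟨Q, hQ⟩ := (mk R hR hcard).exists_le_sylow
  obtain ⟨k, hk⟩ := MulAction.exists_smul_eq H PS Q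
  refine ⟨k, k.2, (Subgroup.eq_of_le_of_card_ge ?_ ?_).symm⟩
  · intro r hr
    have h1 : (⟨r, hR hr⟩ : H) ∈ (Q : Subgroup H) := hQ hr
    rw [← hk, Sylow.coe_subgroup_smul] at h1
    obtain ⟨p, hp, hpe⟩ := h1
    exact ⟨(p : G), hp, congrArg Subtype.val hpe⟩
  · rw [hcard, card_map_of_injective (MulAut.conj (k : G)).injective, D.card_P]

theorem exists_conj_mem {x : G} (hx : x ∈ H) (hx3 : x ^ 3 = 1) :
    ∃ k ∈ H, k * x * k⁻¹ ∈ P := by
  haveI : Fact (Nat.Prime 3) := ⟨by norm_num⟩
  have hP : IsPGroup 3 (P.subgroupOf H) := IsPGroup.of_card (n := 2)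
    (by rw [Nat.card_congr (subgroupOfEquivOfLe D.P_le).toEquiv, D.card_P]; norm_num)
  let PS : Sylow 3 H := hP.toSylow (by rw [D.index_subgroupOf]; norm_num)
  have hz : IsPGroup 3 (zpowers (⟨x, hx⟩ : H)) := by
    obtain ⟨j, -, hj⟩ := (Nat.dvd_prime_pow (p := 3) (m := 1) (by norm_num)).mp
      (orderOf_dvd_of_pow_eq_one (show (⟨x, hx⟩ : H) ^ (3 ^ 1) = 1 from Subtype.ext (by simpa using hx3)))
    exact IsPGroup.of_card (n := j) (by rw [Nat.card_zpowers, hj])
  obtain ⟨Q, hQ⟩ := hz.exists_le_sylow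
  obtain ⟨k, hk⟩ := MulAction.exists_smul_eq H PS Q
  have h1 : (⟨x, hx⟩ : H) ∈ (Q : Subgroup H) := hQ (mem_zpowers _)
  rw [← hk, Sylow.coe_subgroup_smul] at h1
  obtain ⟨p, hp, hpe⟩ := h1
  refine ⟨(k : G)⁻¹, inv_mem k.2, ?_⟩
  have he : (k : G) * p * (k : G)⁻¹ = x := congrArg Subtype.val hpe
  rw [← he]
  have hp' : ((p : H) : G) ∈ P := hp
  simpa [mul_assoc] using hp'

/-- The elements of order 3 of `H` form a trivial intersection set. -/
theorem mem_of_conj_three {x g : G} (hx : x ∈ H) (hx3 : x ^ 3 = 1) (hx1 : x ≠ 1)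
    (hg : g * x * g⁻¹ ∈ H) : g ∈ H := by
  obtain ⟨k, hk, hkx⟩ := D.exists_conj_mem hx hx3
  suffices g * k⁻¹ ∈ H by simpa using mul_mem this hk
  have hy3 : (g * x * g⁻¹) ^ 3 = 1 := by rw [conj_pow, hx3]; simp
  have hy1 : g * x * g⁻¹ ≠ 1 := fun h => hx1 (by simpa using h)
  let R : Subgroup G := P.map (MulAut.conj (g * k⁻¹)).toMonoidHom
  have hR : R ≤ H := by
    rintro _ ⟨p, hp, rfl⟩
    refine D.cent _ hg hy3 hy1 _ ?_
    have h := congrArg (MulAut.conj (g * k⁻¹)) (D.comm_P hp hkx)
    simp only [map_mul] at h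
    simpa [MulAut.conj_apply, mul_assoc] using h
  obtain ⟨l, hl, hlR⟩ := D.exists_conj hR
    (by rw [card_map_of_injective (MulAut.conj (g * k⁻¹)).injective, D.card_P])
  suffices l⁻¹ * (g * k⁻¹) ∈ H by simpa using mul_mem hl this
  refine D.norm_P ?_
  have hle : P.map (MulAut.conj (l⁻¹ * (g * k⁻¹))).toMonoidHom = P := by
    refine eq_of_le_of_card_ge ?_ ?_
    · rintro _ ⟨p, hp, rfl⟩
      have h1 : MulAut.conj (g * k⁻¹) p ∈ R := ⟨p, hp, rfl⟩
      rw [← hlR] at h1
      obtain ⟨q, hq, hqe⟩ := h1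
      have h2 : (MulAut.conj (l⁻¹ * (g * k⁻¹))) p = q := by
        rw [map_mul, MulAut.mul_apply, ← hqe]
        simp [MulAut.conj_apply, mul_assoc]
      show (MulAut.conj (l⁻¹ * (g * k⁻¹))) p ∈ P
      rw [h2]; exact hq
    · rw [card_map_of_injective (MulAut.conj (l⁻¹ * (g * k⁻¹))).injective]
  rw [mem_normalizer_iff]
  intro p
  constructor
  · intro hp
    exact hle.le ⟨p, hp, rfl⟩
  · intro hp
    obtain ⟨q, hq, hqe⟩ := hle.ge hp
    have : q = p := (MulAut.conj (l⁻¹ * (g * k⁻¹))).injective hqe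
    rw [← this]; exact hq

theorem mem_of_conj {g a b : G} (ha : a ∈ H) (hb : b ∈ H) (h3 : 3 ∣ orderOf a)
    (h : g * a * g⁻¹ = b) : g ∈ H := by
  obtain ⟨k, hk⟩ := h3
  have hk0 : k ≠ 0 := by
    rintro rfl
    exact (orderOf_pos a).ne' (by omega)
  refine D.mem_of_conj_three (x := a ^ k) (pow_mem ha k) ?_ ?_ ?_
  · rw [← pow_mul, mul_comm, ← hk, pow_orderOf_eq_one]
  · intro h1
    have := Nat.le_of_dvd (by omega) (orderOf_dvd_of_pow_eq_one h1)
    omega
  · rw [← conj_pow, h]; exact pow_mem hb k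

theorem card_G : Nat.card G = 576 * H.index := by
  rw [← D.card_H]; exact H.card_mul_index.symm

theorem index_mod_nine : H.index % 9 = 1 := by
  classical
  cases nonempty_fintype G
  have hb := MulAction.sum_card_fixedBy_eq_card_orbits_mul_card_group P (G ⧸ H)
  have hfix : ∀ p : P, p ≠ 1 →
      Fintype.card (MulAction.fixedBy (G ⧸ H) p) = 1 := by
    intro p hp
    refine Fintype.card_eq_one_iff.mpr ⟨⟨((1 : G) : G ⧸ H), ?_⟩, ?_⟩
    · show (((p : G) * 1 : G) : G ⧸ H) = _
      rw [mul_one, QuotientGroup.eq]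
      simpa using D.P_le p.2
    · rintro ⟨q, hq⟩
      induction q using QuotientGroup.induction_on with
      | H g =>
        apply Subtype.ext
        have h1 : ((p : G) * g)⁻¹ * g ∈ H := QuotientGroup.eq.mp hq
        rw [QuotientGroup.eq]
        simp only [mul_one]
        have hp' : (p : G) ≠ 1 := fun h => hp (Subtype.ext h)
        have hp3 : (p : G) ^ 9 = 1 := by
          have := pow_card_eq_one' (x := p)
          rw [D.card_P] at this
          exact congrArg Subtype.val this
        have hd : 3 ∣ orderOf (p : G) := by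
          have h9 : orderOf (p : G) ∣ 3 ^ 2 := orderOf_dvd_of_pow_eq_one hp3
          obtain ⟨j, -, hj⟩ := (Nat.dvd_prime_pow (by norm_num)).mp h9
          rw [hj]
          refine dvd_pow_self 3 ?_
          rintro rfl
          exact hp' (orderOf_eq_one_iff.mp hj)
        have h2 : g⁻¹ * (p : G) * g ∈ H := by
          have := inv_mem h1
          simpa [mul_assoc] using this
        exact D.mem_of_conj (g := g⁻¹) (D.P_le p.2) h2 hd (by simp)
  have hone : Fintype.card (MulAction.fixedBy (G ⧸ H) (1 : P)) = H.index := by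
    rw [index_eq_card, ← Nat.card_eq_fintype_card]
    exact Nat.card_congr (Equiv.subtypeUnivEquiv fun q => one_smul P q)
  rw [← Finset.add_sum_erase _ _ (Finset.mem_univ (1 : P)), hone,
    Finset.sum_congr rfl (fun p hp => hfix p (Finset.ne_of_mem_erase hp)), Finset.sum_const,
    Finset.card_erase_of_mem (Finset.mem_univ _), Finset.card_univ,
    ← Nat.card_eq_fintype_card (α := P), D.card_P, smul_eq_mul, mul_one] at hb
  omega

theorem index_mod_seven : H.index % 7 = 0 := by
  have h := D.seven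
  rw [D.card_G] at h
  omega

/-- An element of order 3 of `G` is conjugate into `H`. -/
theorem conj_three_mem {x : G} (hx3 : x ^ 3 = 1) : ∃ g : G, g * x * g⁻¹ ∈ H := by
  haveI : Fact (Nat.Prime 3) := ⟨by norm_num⟩
  have hP : IsPGroup 3 P := IsPGroup.of_card (n := 2) (by rw [D.card_P]; norm_num)
  have hidx : ¬ 3 ∣ P.index := by
    have h := P.index_mul_card
    rw [D.card_P, D.card_G] at h
    have := D.index_mod_nine
    omega
  let PS : Sylow 3 G := hP.toSylow hidx
  have hz : IsPGroup 3 (zpowers x) := by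
    obtain ⟨j, -, hj⟩ := (Nat.dvd_prime_pow (p := 3) (m := 1) (by norm_num)).mp
      (orderOf_dvd_of_pow_eq_one (show x ^ (3 ^ 1) = 1 by simpa using hx3))
    exact IsPGroup.of_card (n := j) (by rw [Nat.card_zpowers, hj])
  obtain ⟨Q, hQ⟩ := hz.exists_le_sylow
  obtain ⟨k, hk⟩ := MulAction.exists_smul_eq G PS Q
  have h1 : x ∈ (Q : Subgroup G) := hQ (mem_zpowers x)
  rw [← hk, Sylow.coe_subgroup_smul] at h1
  obtain ⟨p, hp, hpe⟩ := h1
  refine ⟨k⁻¹, ?_⟩
  have he : k * p * k⁻¹ = x := hpe
  rw [← he]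
  simpa [mul_assoc] using D.P_le hp

/-- An element of prime order `p` prime to 6 commutes with no element of order 2 or 3. -/
theorem coprime_centralizer {y : G} (hp : ¬ orderOf y ∣ 576) :
    Nat.Coprime (Nat.card (centralizer ({y} : Set G))) 576 := by
  have key : ∀ x : G, (∃ g : G, g * x * g⁻¹ ∈ H ∧
      ∀ c : G, c * (g * x * g⁻¹) = g * x * g⁻¹ * c → c ∈ H) → y * x ≠ x * y := by
    rintro x ⟨g, -, hg⟩ hc
    have h1 : g * y * g⁻¹ ∈ H := hg _ (by
      rw [show g * y * g⁻¹ * (g * x * g⁻¹) = g * (y * x) * g⁻¹ by group, hc]; group)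
    refine hp ?_
    have h2 := orderOf_dvd_natCard (⟨_, h1⟩ : H)
    rw [D.card_H, ← orderOf_coe] at h2
    rw [← (MulAut.conj g).orderOf_eq y]
    exact h2
  have no : ∀ q : ℕ, q.Prime → q = 2 ∨ q = 3 →
      ¬ q ∣ Nat.card (centralizer ({y} : Set G)) := by
    intro q hq hq23 hd
    haveI : Fact q.Prime := ⟨hq⟩
    obtain ⟨c, hc⟩ := exists_prime_orderOf_dvd_card' q hd
    have hc1 : (c : G) ≠ 1 := by
      intro h
      rw [← orderOf_coe, h, orderOf_one] at hc
      exact hq.ne_one hc.symm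
    have hcq : (c : G) ^ q = 1 := by rw [← hc, ← orderOf_coe, pow_orderOf_eq_one]
    refine key (c : G) ?_ (mem_centralizer_singleton_iff.mp c.2).symm
    rcases hq23 with rfl | rfl
    · obtain ⟨g, hg⟩ := isConj_iff.mp (D.conj_invol _ hc1 (by rwa [← sq])).symm
      refine ⟨g, ?_, fun d hd => (D.mem_H d).mpr (by rwa [hg] at hd)⟩
      rw [hg]; exact (D.mem_H z).mpr rfl
    · obtain ⟨g, hg⟩ := D.conj_three_mem hcq
      exact ⟨g, hg, D.cent _ hg (by rw [conj_pow, hcq]; simp) (by simpa using hc1)⟩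
  rw [show (576 : ℕ) = 2 ^ 6 * 3 ^ 2 from rfl]
  exact Nat.Coprime.mul_right
    ((Nat.prime_two.coprime_iff_not_dvd.mpr (no 2 Nat.prime_two (Or.inl rfl))).symm.pow_right 6)
    ((Nat.prime_three.coprime_iff_not_dvd.mpr (no 3 Nat.prime_three (Or.inr rfl))).symm.pow_right 2)

/-- Sylow counting at a prime dividing the index once. -/
theorem exists_sylow_div {p q : ℕ} [Fact p.Prime] (hp : ¬ p ∣ 576) (hq : ¬ p ∣ q)
    (hm : H.index = p * q) :
    ∃ r, r ∣ (p - 1) * q ∧ r ∣ 576 * q ∧ (576 * q / r) % p = 1 := by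
  have hpp : p.Prime := Fact.out
  have hG : Nat.card G = p * (576 * q) := by rw [D.card_G, hm]; ring
  obtain ⟨y, hy⟩ := exists_prime_orderOf_dvd_card' p (G := G) (hG ▸ dvd_mul_right p _)
  have hY : Nat.card (zpowers y) = p := by rw [Nat.card_zpowers, hy]
  have hYp : IsPGroup p (zpowers y) := IsPGroup.of_card (n := 1) (by rw [hY, pow_one])
  have hYi : ¬ p ∣ (zpowers y).index := by
    have h := (zpowers y).index_mul_card
    rw [hY, hG, mul_comm p] at h
    rw [Nat.eq_of_mul_eq_mul_right hpp.pos h, hpp.dvd_mul]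
    tauto
  let S : Sylow p G := hYp.toSylow hYi
  have hSY : (S : Subgroup G) = zpowers y := rfl
  set N := normalizer (zpowers y : Set G) with hN
  set C := centralizer (zpowers y : Set G) with hC
  have hn : N.index % p = 1 := by
    have h := card_sylow_modEq_one p G
    rw [S.card_eq_index_normalizer] at h
    rw [Nat.ModEq, Nat.mod_eq_of_lt hpp.one_lt] at h
    exact h
  have hCN : C ≤ N := centralizer_le_normalizer _
  have hd : Nat.card (zpowers y).normalizerMonoidHom.range ∣ p - 1 := by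
    refine (card_subgroup_dvd_card _).trans ?_
    rw [IsCyclic.card_mulAut, hY, Nat.totient_prime hpp]
  have hNcard : Nat.card N = Nat.card C * Nat.card (zpowers y).normalizerMonoidHom.range := by
    have hker : (zpowers y).normalizerMonoidHom.ker = C.subgroupOf N :=
      normalizerMonoidHom_ker _
    have h := (zpowers y).normalizerMonoidHom.ker.card_mul_index
    rw [index_ker, hker, Nat.card_congr (subgroupOfEquivOfLe hCN).toEquiv] at h
    exact h.symm
  have hCc : C = centralizer ({y} : Set G) := by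
    ext c
    rw [hC, mem_centralizer_singleton_iff, mem_centralizer_iff]
    exact ⟨fun h => (h y (mem_zpowers y)).symm, fun h t ht => by
      obtain ⟨k, rfl⟩ := ht
      exact ((Commute.zpow_right (show Commute c y from h) k).eq).symm⟩
  have hcop : Nat.Coprime (Nat.card C) 576 := hCc ▸ D.coprime_centralizer (by rw [hy]; exact hp)
  have hpC : p ∣ Nat.card C := by
    rw [← hy]
    have hyC : y ∈ C := hCc ▸ mem_centralizer_singleton_iff.mpr rfl
    simpa [← orderOf_coe] using orderOf_dvd_natCard (⟨y, hyC⟩ : C)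
  have hCm : Nat.card C ∣ p * q := by
    refine hcop.dvd_of_dvd_mul_left ?_
    rw [← hm, ← D.card_G]
    exact card_subgroup_dvd_card C
  obtain ⟨c, hc⟩ := hpC
  rw [hc] at hCm
  have hcq : c ∣ q := Nat.dvd_of_mul_dvd_mul_left hpp.pos hCm
  refine ⟨c * Nat.card (zpowers y).normalizerMonoidHom.range, ?_, ?_, ?_⟩
  · rw [mul_comm (p - 1)]; exact mul_dvd_mul hcq hd
  all_goals
    have h := N.index_mul_card
    rw [hNcard, hc, hG] at h
    have h' : c * Nat.card (zpowers y).normalizerMonoidHom.range * N.index = 576 * q := by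
      apply Nat.eq_of_mul_eq_mul_left hpp.pos
      rw [← h]; ring
  · exact ⟨N.index, h'.symm⟩
  · have hpos : 0 < c * Nat.card (zpowers y).normalizerMonoidHom.range := by
      rcases Nat.eq_zero_or_pos (c * Nat.card (zpowers y).normalizerMonoidHom.range) with h0 | h0
      · rw [h0, zero_mul] at h'
        have : q = 0 := by omega
        exact absurd (this ▸ dvd_zero p) hq
      · exact h0
    rw [← h', Nat.mul_div_cancel_left _ hpos]
    exact hn

end ExcData

/-- An integral family with square sum two. -/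
theorem exists_two {ι : Type*} [DecidableEq ι] (s : Finset ι) (k : ι → ℤ)
    (h : ∑ i ∈ s, k i * k i = 2) :
    ∃ a ∈ s, ∃ b ∈ s, a ≠ b ∧ k a * k a = 1 ∧ k b * k b = 1 ∧
      ∀ i ∈ s, i ≠ a → i ≠ b → k i = 0 := by
  set t := s.filter fun i => k i ≠ 0 with ht
  have hone : ∀ i ∈ t, 1 ≤ k i * k i := fun i hi => by
    have := mul_self_pos.mpr (Finset.mem_filter.mp hi).2
    omega
  have hts : ∑ i ∈ t, k i * k i = 2 := by
    rw [ht, Finset.sum_filter_of_ne]
    · exact h
    · intro i _ h0 h1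
      exact h0 (by rw [h1, zero_mul])
  have hcard : t.card = 2 := by
    have hle := Finset.sum_le_sum hone
    rw [Finset.sum_const, hts] at hle
    simp only [nsmul_eq_mul, mul_one] at hle
    by_contra hc
    rcases (by omega : t.card = 0 ∨ t.card = 1) with h0 | h0
    · rw [Finset.card_eq_zero.mp h0] at hts; simp at hts
    · obtain ⟨a, ha⟩ := Finset.card_eq_one.mp h0
      rw [ha, Finset.sum_singleton] at hts
      have hu : k a ≤ 1 := by nlinarith
      have hl : -1 ≤ k a := by nlinarith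
      interval_cases (k a) <;> omega
  obtain ⟨a, b, hab, hab'⟩ := Finset.card_eq_two.mp hcard
  rw [hab', Finset.sum_pair hab] at hts
  have ha := hone a (by simp [hab'])
  have hb := hone b (by simp [hab'])
  have has : a ∈ s := (Finset.mem_filter.mp (hab' ▸ Finset.mem_insert_self a _ : a ∈ t)).1
  have hbs : b ∈ s := (Finset.mem_filter.mp (hab' ▸ (by simp) : b ∈ t)).1
  refine ⟨a, has, b, hbs, hab, by omega, by omega, fun i hi hia hib => ?_⟩
  by_contra h0
  have : i ∈ t := Finset.mem_filter.mpr ⟨hi, h0⟩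
  rw [hab'] at this
  simp [hia, hib] at this

/-- Values at an involution are integers. -/
theorem exists_int_invol [Fintype G] (χ : Cfsg.IrrCharacter G) {t : G} (ht : orderOf t = 2) :
    ∃ k : ℤ, (χ : G → ℂ) t = k := by
  classical
  have := Fintype.ofFinite (Subgroup.zpowers t)
  obtain ⟨k, hk⟩ := classInner_isCharacter_nat
    (isCharacter_restrict (irr_isCharacter χ.2) (Subgroup.zpowers t))
    (irr_isCharacter (G := Subgroup.zpowers t) isIrrCharacter_one)
  obtain ⟨f, hf, hf1⟩ := irr_apply_one_pos χ.2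
  refine ⟨2 * (k : ℤ) - f, ?_⟩
  rw [classInner_def, Nat.card_zpowers, ht] at hk
  have ht1 : t ≠ 1 := fun h => by rw [h, orderOf_one] at ht; omega
  have huniv : (Finset.univ : Finset (Subgroup.zpowers t)) = {1, ⟨t, Subgroup.mem_zpowers t⟩} := by
    symm
    refine Finset.eq_univ_of_card _ ?_
    rw [Finset.card_pair (fun h => ht1 (congrArg Subtype.val h).symm), ← Nat.card_eq_fintype_card,
      Nat.card_zpowers, ht]
  rw [huniv, Finset.sum_pair (fun h => ht1 (congrArg Subtype.val h).symm)] at hk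
  simp only [map_one, mul_one, OneMemClass.coe_one, hf1] at hk
  push_cast at hk ⊢
  linear_combination 2 * hk

open scoped Classical in
/-- The exceptional character case is impossible. -/
theorem ExcData.false_of_theta [Finite G] {z : G} {H P : Subgroup G} (D : ExcData z H P)
    [Fintype H] {θ : H → ℂ} (T : Theta H θ) : False := by
  cases nonempty_fintype G
  have := Fintype.ofFinite (Cfsg.IrrCharacter G)
  have hcl : ∀ a b : H, θ (b * a * b⁻¹) = θ a := isGeneralized_isClassFunction T.gen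
  let S : H → Prop := fun a => 3 ∣ orderOf a
  have hθS : ∀ a, ¬ S a → θ a = 0 := fun a ha => by_contra fun h => ha (T.supp a h)
  have hTI : ∀ (x : G) (a b : H), S a → S b → x * (a : G) * x⁻¹ = b → x ∈ H := by
    intro x a b ha _ hab
    exact D.mem_of_conj a.2 b.2 (by rwa [orderOf_coe]) hab
  have hloc : ∀ s ∈ PairTrick.invol G, ∀ t ∈ PairTrick.invol G, ∀ h : s * t ∈ H,
      θ ⟨s * t, h⟩ ≠ 0 → s ∈ H := by
    intro s hs t ht h h0
    refine D.mem_of_conj h (inv_mem h) (by simpa [← orderOf_coe] using T.supp _ h0) ?_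
    rw [← mul_assoc, (PairTrick.mem_invol.mp hs).2, one_mul, mul_inv_rev,
      inv_eq_of_mul_eq_one_right (PairTrick.mem_invol.mp ht).2]
  have hgen := isGeneralized_indFun H T.gen
  obtain ⟨k, hk, hkχ⟩ := PairTrick.exists_coeff hgen
  choose d hd hd1 using fun χ : Cfsg.IrrCharacter G => irr_apply_one_pos χ.2
  let o : Cfsg.IrrCharacter G := ⟨_, isIrrCharacter_one⟩
  have hko : k o = 1 := by
    have h := hkχ o
    rw [show ((o : Cfsg.IrrCharacter G) : G → ℂ) = fun _ => (1 : ℂ) from rfl,
      frobenius_reciprocity _ _ _ (isGeneralized_isClassFunction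
        (isGeneralized_of_isCharacter isCharacter_one)), T.inner_one] at h
    exact_mod_cast h.symm
  have hnorm : ∑ χ, k χ * k χ = 3 := by
    have h := PairTrick.classInner_eq_sum (indFun_isClassFunction _ _) hkχ hkχ
    rw [PairTrick.isometry H hcl hθS hθS hTI, T.norm] at h
    exact_mod_cast h.symm
  rw [← Finset.add_sum_erase _ _ (Finset.mem_univ o), hko] at hnorm
  obtain ⟨a, ha, b, hb, hab, hka, hkb, hk0⟩ :=
    exists_two (Finset.univ.erase o) k (by linarith)
  have hao : a ≠ o := Finset.ne_of_mem_erase ha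
  have hbo : b ≠ o := Finset.ne_of_mem_erase hb
  have hsum : ∀ v : Cfsg.IrrCharacter G → ℂ,
      ∑ χ, (k χ : ℂ) * v χ = v o + (k a : ℂ) * v a + (k b : ℂ) * v b := by
    intro v
    rw [← Finset.sum_subset (Finset.subset_univ ({o, a, b} : Finset (Cfsg.IrrCharacter G)))
      (fun χ _ hχ => by
        simp only [Finset.mem_insert, Finset.mem_singleton, not_or] at hχ
        rw [hk0 χ (Finset.mem_erase.mpr ⟨hχ.1, Finset.mem_univ _⟩) hχ.2.1 hχ.2.2]
        simp)]
    rw [Finset.sum_insert (by simp [hao.symm, hbo.symm]), Finset.sum_pair hab, hko]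
    push_cast; ring
  -- values at the involution
  have hz2 : orderOf z = 2 := orderOf_eq_prime (by rw [sq, D.z_sq]) D.z_ne
  choose v hv using fun χ : Cfsg.IrrCharacter G => exists_int_invol χ hz2
  have hvo : v o = 1 := by
    have h := hv o
    have h' : (1 : ℂ) = (v o : ℂ) := h
    exact_mod_cast h'.symm
  have hdo : d o = 1 := by
    have h := hd1 o
    have h' : (1 : ℂ) = (d o : ℂ) := h
    exact_mod_cast h'.symm
  have hHz : centralizer ({z} : Set G) = H := by
    ext g; rw [mem_centralizer_singleton_iff, D.mem_H]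
  have hinv : ∀ χ : Cfsg.IrrCharacter G,
      PairTrick.invSum (χ : G → ℂ) = (H.index : ℂ) * v χ := by
    intro χ
    have hcard : (PairTrick.invol G).card = H.index := by
      rw [← hHz, ← natCard_carrier_eq_index, Nat.card_eq_fintype_card, ← Set.toFinset_card]
      congr 1
      ext u
      rw [Set.mem_toFinset, ConjClasses.mem_carrier_iff_mk_eq, ConjClasses.mk_eq_mk_iff_isConj,
        PairTrick.mem_invol]
      constructor
      · exact fun h => (D.conj_invol u h.1 h.2).symm
      · intro h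
        obtain ⟨c, hc⟩ := isConj_iff.mp h.symm
        exact hc ▸ PairTrick.mem_invol.mp
          (PairTrick.conj_mem_invol (PairTrick.mem_invol.mpr ⟨D.z_ne, D.z_sq⟩) c)
    rw [PairTrick.invSum, Finset.sum_congr rfl fun u hu => ?_, Finset.sum_const, hcard,
      nsmul_eq_mul]
    rw [← hv χ]
    exact (isClassFunction_isConj (irr_isClassFunction χ.2)
      (D.conj_invol u (PairTrick.mem_invol.mp hu).1 (PairTrick.mem_invol.mp hu).2)).symm
  have hm : (H.index : ℂ) ≠ 0 := by exact_mod_cast index_ne_zero_of_finite (H := H)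
  have h1 : (1 : ℤ) + k a * d a + k b * d b = 0 := by
    have h : Cfsg.indFun H θ 1 = ∑ χ : Cfsg.IrrCharacter G, (k χ : ℂ) * (d χ : ℂ) := by
      conv_lhs => rw [hk]
      simp [Finset.sum_apply, hd1]
    rw [indFun_apply_one, T.one, mul_zero, hsum, hdo] at h
    exact_mod_cast h.symm
  have h2 : (1 : ℤ) + k a * v a + k b * v b = 0 := by
    have h := PairTrick.invSum_indFun (G := G) H θ fun c hc => hθS c fun h3 => by
      have h4 : orderOf c ∣ 2 := orderOf_dvd_of_pow_eq_one (by rwa [sq])
      exact absurd (h3.trans h4) (by norm_num)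
    rw [hk, PairTrick.invSum_sum] at h
    simp only [hinv] at h
    rw [hsum, hvo] at h
    have h' : (H.index : ℂ) * (1 + (k a : ℂ) * v a + (k b : ℂ) * v b) = 0 := by
      rw [← h]; push_cast; ring
    exact_mod_cast (mul_eq_zero.mp h').resolve_left hm
  have h3 : (H.index : ℂ) *
      (1 + (k a : ℂ) * (v a : ℂ) ^ 2 / d a + (k b : ℂ) * (v b : ℂ) ^ 2 / d b) = 10368 := by
    have h := PairTrick.pairSum_indFun (G := G) H θ hloc
    rw [hk, PairTrick.pairSum_sum] at h
    simp only [PairTrick.pairSum_irr, hd1, hinv] at h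
    rw [hsum, hvo, hdo, T.pairs, D.card_G, D.card_H] at h
    push_cast at h
    apply mul_left_cancel₀ hm
    field_simp at h ⊢
    linear_combination h
  have hbound : v a * v a + v b * v b ≤ 575 := by
    have h := column_orthogonality (G := G) z z
    rw [if_pos (IsConj.refl z), hHz, D.card_H] at h
    simp only [hv, map_intCast] at h
    have h' : ∑ χ : Cfsg.IrrCharacter G, v χ * v χ = 576 := by exact_mod_cast h
    have hle := Finset.sum_le_sum_of_subset_of_nonneg
      (Finset.subset_univ ({o, a, b} : Finset (Cfsg.IrrCharacter G)))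
      (f := fun χ => v χ * v χ) (fun χ _ _ => mul_self_nonneg _)
    rw [h', Finset.sum_insert (by simp [hao.symm, hbo.symm]), Finset.sum_pair hab, hvo] at hle
    linarith
  -- the arithmetic
  have hdaC : (d a : ℂ) ≠ 0 := by exact_mod_cast (hd a).ne'
  have hdbC : (d b : ℂ) ≠ 0 := by exact_mod_cast (hd b).ne'
  have hkey : (H.index : ℤ) * (k a * d a - k a * v a) ^ 2 =
      10368 * (k a * d a * (k a * d a + 1)) := by
    have h1' : (1 : ℂ) + (k a : ℂ) * d a + (k b : ℂ) * d b = 0 := by exact_mod_cast h1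
    have h2' : (1 : ℂ) + (k a : ℂ) * v a + (k b : ℂ) * v b = 0 := by exact_mod_cast h2
    have ka : (k a : ℂ) * k a = 1 := by exact_mod_cast hka
    have kb : (k b : ℂ) * k b = 1 := by exact_mod_cast hkb
    have hA : (k a : ℂ) * d a ≠ 0 := mul_ne_zero (fun h => by simp [h] at ka) hdaC
    have hB : (k b : ℂ) * d b ≠ 0 := mul_ne_zero (fun h => by simp [h] at kb) hdbC
    have e1 : (k a : ℂ) * (v a : ℂ) ^ 2 / d a = ((k a : ℂ) * v a) ^ 2 / ((k a : ℂ) * d a) := by
      field_simp
    have e2 : (k b : ℂ) * (v b : ℂ) ^ 2 / d b = ((k b : ℂ) * v b) ^ 2 / ((k b : ℂ) * d b) := by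
      field_simp
    rw [e1, e2, show (k b : ℂ) * v b = -1 - (k a : ℂ) * v a by linear_combination h2',
      show (k b : ℂ) * d b = -1 - (k a : ℂ) * d a by linear_combination h1'] at h3
    have hB' : (-1 : ℂ) - (k a : ℂ) * d a ≠ 0 := by
      rw [show (-1 : ℂ) - (k a : ℂ) * d a = (k b : ℂ) * d b by linear_combination -h1']
      exact hB
    have hfin : (H.index : ℂ) * ((k a : ℂ) * d a - (k a : ℂ) * v a) ^ 2 =
        10368 * ((k a : ℂ) * d a * ((k a : ℂ) * d a + 1)) := by
      generalize (k a : ℂ) * d a = A at h3 hA hB' ⊢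
      generalize (k a : ℂ) * v a = X at h3 ⊢
      field_simp at h3
      linear_combination -h3
    exact_mod_cast hfin
  have hkk : k a = 1 ∨ k a = -1 := Int.eq_one_or_neg_one_of_mul_eq_one hka
  have hkk' : k b = 1 ∨ k b = -1 := Int.eq_one_or_neg_one_of_mul_eq_one hkb
  have hda := hd a
  have hdb := hd b
  have hX : k a * v a * (k a * v a + 1) ≤ 287 := by
    rcases hkk with e | e <;> rcases hkk' with e' | e' <;> simp only [e, e'] at h2 ⊢ <;>
      nlinarith
  have hodd := D.odd
  have h9 := D.index_mod_nine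
  have h7 := D.index_mod_seven
  rcases index_cases (H.index : ℤ) (k a * d a) (k a * v a) (by omega) (by omega) (by omega)
    (by rcases hkk with e | e <;> rw [e] <;> omega)
    (by
      rcases hkk with e | e <;> rcases hkk' with e' | e' <;> simp only [e, e'] at h1 ⊢ <;> omega)
    hX hkey with hm' | hm'
  · haveI : Fact (Nat.Prime 67) := ⟨by norm_num⟩
    obtain ⟨r, hr1, hr2, hr3⟩ :=
      D.exists_sylow_div (p := 67) (q := 133) (by norm_num) (by norm_num) (by omega)
    exact sylow_check_67 hr1 hr2 hr3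
  · haveI : Fact (Nat.Prime 11) := ⟨by norm_num⟩
    obtain ⟨r, hr1, hr2, hr3⟩ :=
      D.exists_sylow_div (p := 11) (q := 1085) (by norm_num) (by norm_num) (by omega)
    exact sylow_check_11 hr1 hr2 hr3

end CfsgLib.Recog.G23
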