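import Mathlib

/-!
The arithmetic of the exceptional character case for a centraliser of order 576:
only the indices 8911 and 11935 are possible, and both contradict Sylow counting.
-/

set_option autoImplicit false
set_option linter.all false

namespace CfsgLib.Recog.G23

/-- The finite check on `X` and `f`. -/
theorem index_check : ∀ i ∈ List.range 34, ∀ j ∈ List.range 577,
    let X : ℤ := (i : ℤ) - 17
    let f : ℤ := (j : ℤ) - 288
    let R : ℤ := 144 * (2 * X + 1) * f + X * (X + 1)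
    f ≠ 0 → R % (2 * (f * f)) = 0 → (10368 + R / (2 * (f * f))) % 2 = 1 →
      (10368 + R / (2 * (f * f))) % 9 = 1 → (10368 + R / (2 * (f * f))) % 7 = 0 →
      10368 + R / (2 * (f * f)) = 8911 ∨ 10368 + R / (2 * (f * f)) = 11935 := by
  decide +kernel

theorem sixteen_dvd {m d a : ℤ} (hm : m % 2 = 1) (h : m * d ^ 2 = 10368 * (a * (a + 1))) :
    (16 : ℤ) ∣ d := by
  obtain ⟨k, hk⟩ : (2 : ℤ) ∣ a * (a + 1) := (Int.even_mul_succ_self a).two_dvd
  have h256 : ((2 : ℤ) ^ 8) ∣ m * d ^ 2 := ⟨81 * k, by rw [h, hk]; ring⟩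
  have hp : Prime (2 : ℤ) := Int.prime_two
  have h2 : ((2 : ℤ) ^ 8) ∣ d ^ 2 :=
    hp.pow_dvd_of_dvd_mul_left 8 (by omega) h256
  have h4 : ((2 : ℤ) ^ 4) ^ 2 ∣ d ^ 2 := by rw [← pow_mul]; exact h2
  exact (Int.pow_dvd_pow_iff (by norm_num)).mp h4

theorem nine_dvd {m d a : ℤ} (hm : m % 3 ≠ 0) (h : 2 * (m * d ^ 2) = 81 * a) : (9 : ℤ) ∣ d := by
  have h81 : ((3 : ℤ) ^ 4) ∣ (2 * m) * d ^ 2 := ⟨a, by rw [mul_assoc, h]; norm_num⟩
  have hp : Prime (3 : ℤ) := Int.prime_three
  have h2 : ((3 : ℤ) ^ 4) ∣ d ^ 2 := hp.pow_dvd_of_dvd_mul_left 4 (by omega) h81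
  have h4 : ((3 : ℤ) ^ 2) ^ 2 ∣ d ^ 2 := by rw [← pow_mul]; exact h2
  exact (Int.pow_dvd_pow_iff (by norm_num)).mp h4

/-- The possible indices. -/
theorem index_cases (m A X : ℤ) (hm2 : m % 2 = 1) (hm9 : m % 9 = 1) (hm7 : m % 7 = 0)
    (hA0 : A ≠ 0) (hA1 : A + 1 ≠ 0) (hX : X * (X + 1) ≤ 287)
    (h : m * (A - X) ^ 2 = 10368 * (A * (A + 1))) : m = 8911 ∨ m = 11935 := by
  have hXl : -17 ≤ X := by nlinarith
  have hXu : X ≤ 16 := by nlinarith
  obtain ⟨e, he⟩ := sixteen_dvd hm2 h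
  have he' : 2 * (m * e ^ 2) = 81 * (A * (A + 1)) := by
    rw [he] at h; linarith
  obtain ⟨f, hf⟩ := nine_dvd (by omega) he'
  have hA : A = X + 144 * f := by omega
  have hk : 2 * (m - 10368) * (f * f) = 144 * (2 * X + 1) * f + X * (X + 1) := by
    rw [hf, hA] at he'
    nlinarith
  have hf0 : f ≠ 0 := by
    rintro rfl
    have : X * (X + 1) = 0 := by simpa using hk.symm
    rcases mul_eq_zero.mp this with h0 | h0
    · exact hA0 (by omega)
    · exact hA1 (by omega)
  have hfd : f ∣ X * (X + 1) := ⟨2 * (m - 10368) * f - 144 * (2 * X + 1), by linarith⟩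
  have hb : -288 ≤ f ∧ f ≤ 288 := by
    by_cases h0 : X * (X + 1) = 0
    · have hd : f ∣ 144 * (2 * X + 1) := by
        refine ⟨2 * (m - 10368), ?_⟩
        apply mul_right_cancel₀ hf0
        linarith
      have hX' : X = 0 ∨ X = -1 := by
        rcases mul_eq_zero.mp h0 with h | h
        · exact Or.inl h
        · exact Or.inr (by omega)
      have hd' : f ∣ (144 : ℤ) := by
        rcases hX' with rfl | rfl
        · simpa using hd
        · simpa using hd
      have h1 := Int.le_of_dvd (by norm_num) hd'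
      have h2 := Int.le_of_dvd (by norm_num) (Int.neg_dvd.mpr hd')
      omega
    · have hpos : 0 ≤ X * (X + 1) := by
        rcases le_or_gt 0 X with h | h
        · positivity
        · nlinarith
      have h1 := Int.le_of_dvd (by omega) hfd
      have h2 := Int.le_of_dvd (by omega) (Int.neg_dvd.mpr hfd)
      omega
  obtain ⟨i, hi⟩ : ∃ i : ℕ, X = (i : ℤ) - 17 := ⟨(X + 17).toNat, by omega⟩
  obtain ⟨j, hj⟩ : ∃ j : ℕ, f = (j : ℤ) - 288 := ⟨(f + 288).toNat, by omega⟩
  have hff : 2 * (f * f) ≠ 0 := by positivity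
  have hdiv : (144 * (2 * X + 1) * f + X * (X + 1)) / (2 * (f * f)) = m - 10368 := by
    rw [← hk, show 2 * (m - 10368) * (f * f) = (m - 10368) * (2 * (f * f)) by ring]
    exact Int.mul_ediv_cancel _ hff
  have hmod : (144 * (2 * X + 1) * f + X * (X + 1)) % (2 * (f * f)) = 0 := by
    rw [← hk, show 2 * (m - 10368) * (f * f) = (m - 10368) * (2 * (f * f)) by ring]
    exact Int.mul_emod_left _ _
  have hc := index_check i (List.mem_range.mpr (by omega)) j (List.mem_range.mpr (by omega))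
  simp only [← hi, ← hj] at hc
  rw [hdiv, show (10368 : ℤ) + (m - 10368) = m by ring] at hc
  exact hc hf0 hmod hm2 hm9 hm7

theorem sylow_check_67' : ∀ a ∈ List.range 30, ∀ b ∈ List.range 30,
    798 % (30 * a + b) = 0 → (76608 / (30 * a + b)) % 67 ≠ 1 := by decide +kernel

theorem sylow_check_11' : ∀ a ∈ List.range 48, ∀ b ∈ List.range 48,
    2170 % (48 * a + b) = 0 → (624960 / (48 * a + b)) % 11 ≠ 1 := by decide +kernel

/-- No Sylow normaliser fits the index 8911. -/
theorem sylow_check_67 {r : ℕ} (h1 : r ∣ 8778) (h2 : r ∣ 76608) : (76608 / r) % 67 ≠ 1 := by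
  have hd : r ∣ 798 := by
    have := Nat.dvd_gcd h1 h2
    norm_num at this
    exact this
  have hle := Nat.le_of_dvd (by norm_num) hd
  have h := sylow_check_67' (r / 30) (List.mem_range.mpr (by omega)) (r % 30)
    (List.mem_range.mpr (by omega))
  rw [Nat.div_add_mod] at h
  exact h (Nat.mod_eq_zero_of_dvd hd)

/-- No Sylow normaliser fits the index 11935. -/
theorem sylow_check_11 {r : ℕ} (h1 : r ∣ 10850) (h2 : r ∣ 624960) :
    (624960 / r) % 11 ≠ 1 := by
  have hd : r ∣ 2170 := by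
    have := Nat.dvd_gcd h1 h2
    norm_num at this
    exact this
  have hle := Nat.le_of_dvd (by norm_num) hd
  have h := sylow_check_11' (r / 48) (List.mem_range.mpr (by omega)) (r % 48)
    (List.mem_range.mpr (by omega))
  rw [Nat.div_add_mod] at h
  exact h (Nat.mod_eq_zero_of_dvd hd)

end CfsgLib.Recog.G23
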