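import Cfsg.Agent.Lib.Recog.G23.Char
import Cfsg.Agent.Lib.Perm.PermChar
import Cfsg.Agent.Lib.Char.Linear

/-!
The class function of the exceptional case, from a map of the centraliser onto `S_3`.
-/

set_option autoImplicit false
set_option linter.all false

namespace CfsgLib.Recog.G23

open Subgroup CfsgLib.Char CfsgLib.Block

universe u

/-- The three point group. -/
abbrev S3 : Type := Equiv.Perm (Fin 3)

/-- `1 + sgn - (two dimensional character)`. -/
def thetaS3 (σ : S3) : ℤ :=
  2 + (Equiv.Perm.sign σ : ℤ) - ((Finset.univ.filter fun x => σ x = x).card : ℤ)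

theorem thetaS3_cases : ∀ σ : S3, thetaS3 σ = 0 ∨
    (thetaS3 σ = 3 ∧ σ ≠ 1 ∧ σ ^ 3 = 1) := by decide +kernel

theorem thetaS3_one : thetaS3 1 = 0 := by decide +kernel

theorem sum_thetaS3 : ∑ σ : S3, thetaS3 σ = 6 ∧ ∑ σ : S3, thetaS3 σ * thetaS3 σ = 18 := by
  decide +kernel

/-- Weight one on the identity. -/
def wOne (σ : S3) : ℤ := if σ = 1 then 1 else 0

/-- Weight one on the transpositions. -/
def wOdd (σ : S3) : ℤ := if Equiv.Perm.sign σ = 1 then 0 else 1

theorem pair_thetaS3 : ∑ σ : S3, ∑ τ : S3, wOne σ * wOne τ * thetaS3 (σ * τ) = 0 ∧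
    ∑ σ : S3, ∑ τ : S3, wOne σ * wOdd τ * thetaS3 (σ * τ) = 0 ∧
    ∑ σ : S3, ∑ τ : S3, wOdd σ * wOne τ * thetaS3 (σ * τ) = 0 ∧
    ∑ σ : S3, ∑ τ : S3, wOdd σ * wOdd τ * thetaS3 (σ * τ) = 18 := by decide +kernel

theorem invol_cases : ∀ σ : S3, σ * σ = 1 → σ = 1 ∨ Equiv.Perm.sign σ = -1 := by decide +kernel

theorem odd_conj : ∀ σ τ : S3, Equiv.Perm.sign σ = -1 → Equiv.Perm.sign τ = -1 →
    ∃ ρ, ρ * σ * ρ⁻¹ = τ := by decide +kernel

theorem odd_card : (Finset.univ.filter fun σ : S3 => Equiv.Perm.sign σ = -1).card = 3 := by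
  decide +kernel

variable {G : Type u} [Group G] {H : Subgroup G} [Fintype H] (π : H →* S3)

/-- The class function on the centraliser. -/
noncomputable def thetaH (a : H) : ℂ := (thetaS3 (π a) : ℂ)

theorem thetaH_gen : Cfsg.IsGeneralizedCharacter H (thetaH π) := by
  have one := isGeneralized_of_isCharacter (isCharacter_one (G := H))
  let sgn : H →* ℂˣ := ((Units.map (Int.castRingHom ℂ).toMonoidHom).comp
    Equiv.Perm.sign).comp π
  have hs : Cfsg.IsGeneralizedCharacter H fun a => (sgn a : ℂ) :=
    isGeneralized_of_isCharacter (irr_isCharacter (isIrrCharacter_linear sgn))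
  have hp : Cfsg.IsGeneralizedCharacter H fun a =>
      ((Finset.univ.filter fun x => π a x = x).card : ℂ) := by
    convert isGeneralized_of_isCharacter (isCharacter_comp
      (Perm.isCharacter_permChar (G := S3) (Ω := Fin 3)) π) using 1
    funext a
    simp only [Function.comp_apply, Perm.permChar]
    rw [Nat.card_eq_fintype_card, ← Fintype.card_subtype]
    rfl
  have hneg : ∀ f g : H → ℂ, Cfsg.IsGeneralizedCharacter H f → Cfsg.IsGeneralizedCharacter H g →
      Cfsg.IsGeneralizedCharacter H (f + g) := by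
    intro f g hf hg
    have h0 := isGeneralized_sub one one
    have h := isGeneralized_sub hf (isGeneralized_sub h0 hg)
    convert h using 1
    funext a; simp
  convert isGeneralized_sub (hneg _ _ (hneg _ _ one one) hs) hp using 1
  funext a
  simp only [thetaH, thetaS3, Pi.sub_apply, Pi.add_apply]
  push_cast
  simp [sgn]
  ring

open scoped Classical in
theorem card_fibre (hπ : Function.Surjective π) (σ : S3) :
    (Finset.univ.filter fun a : H => π a = σ).card * 6 = Nat.card H := by
  have h : ∀ τ : S3, (Finset.univ.filter fun a : H => π a = τ).card =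
      (Finset.univ.filter fun a : H => π a = σ).card := by
    intro τ
    obtain ⟨c, hc⟩ := hπ (τ * σ⁻¹)
    refine (Finset.card_equiv (Equiv.mulLeft c) fun a => ?_).symm
    simp only [Finset.mem_filter, Finset.mem_univ, true_and, Equiv.coe_mulLeft, map_mul, hc]
    exact ⟨fun h => by rw [h]; simp, fun h => mul_left_cancel (h.trans (by simp))⟩
  have h6 : (Finset.univ : Finset S3).card = 6 := by decide +kernel
  have e := Finset.card_eq_sum_card_fiberwise (f := π) (s := (Finset.univ : Finset H))
    (t := Finset.univ) (fun a _ => Finset.mem_univ _)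
  rw [Finset.sum_congr rfl fun τ _ => h τ, Finset.sum_const, h6, smul_eq_mul] at e
  rw [Nat.card_eq_fintype_card, ← Finset.card_univ, e, mul_comm]

open scoped Classical in
theorem sum_thetaH (hπ : Function.Surjective π) (F : S3 → ℤ) :
    6 * ∑ a : H, (F (π a) : ℂ) = (Nat.card H : ℂ) * ((∑ σ, F σ : ℤ) : ℂ) := by
  rw [← Finset.sum_fiberwise' Finset.univ π fun σ => (F σ : ℂ)]
  push_cast
  rw [Finset.mul_sum, Finset.mul_sum]
  refine Finset.sum_congr rfl fun σ _ => ?_
  rw [Finset.sum_const, nsmul_eq_mul, ← card_fibre π hπ σ]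
  push_cast; ring

open scoped Classical in
/-- Everything needed of the class function follows from 72 involutions lying over the
transpositions. -/
theorem theta_of_map (hπ : Function.Surjective π) (hH : Nat.card H = 576)
    (h72 : ((PairTrick.invol H).filter fun s => Equiv.Perm.sign (π s) = -1).card = 72) :
    Theta H (thetaH π) where
  gen := thetaH_gen π
  one := by simp [thetaH, thetaS3_one]
  norm := by
    have h := sum_thetaH π hπ fun σ => thetaS3 σ * thetaS3 σ
    rw [classInner_def, Finset.sum_congr rfl fun a _ =>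
      show thetaH π a * (starRingEnd ℂ) (thetaH π a) = ((thetaS3 (π a) * thetaS3 (π a) : ℤ) : ℂ) by
        simp [thetaH]]
    rw [sum_thetaS3.2, hH] at h
    rw [hH]
    push_cast at h ⊢
    linear_combination (1 / 3456 : ℂ) * h
  inner_one := by
    have h := sum_thetaH π hπ thetaS3
    simp only [classInner_def, map_one, mul_one, thetaH]
    rw [sum_thetaS3.1, hH] at h
    rw [hH]
    push_cast at h ⊢
    linear_combination (1 / 3456 : ℂ) * h
  supp := by
    intro a ha
    rcases thetaS3_cases (π a) with h | ⟨-, h1, h3⟩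
    · exact absurd (by simp [thetaH, h]) ha
    · have := orderOf_map_dvd π a
      rwa [orderOf_eq_prime h3 h1] at this
  pairs := by
    set n : S3 → ℕ := fun σ => ((PairTrick.invol H).filter fun s => π s = σ).card with hn
    have hodd : ∀ σ τ, Equiv.Perm.sign σ = -1 → Equiv.Perm.sign τ = -1 → n σ = n τ := by
      intro σ τ hσ hτ
      obtain ⟨ρ, hρ⟩ := odd_conj σ τ hσ hτ
      obtain ⟨c, hc⟩ := hπ ρ
      refine Finset.card_equiv (MulAut.conj c).toEquiv fun s => ?_
      simp only [Finset.mem_filter, MulEquiv.toEquiv_eq_coe, EquivLike.coe_coe, MulAut.conj_apply,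
        map_mul, map_inv, hc]
      constructor
      · exact fun h => ⟨PairTrick.conj_mem_invol h.1 c, by rw [h.2, hρ]⟩
      · intro h
        refine ⟨?_, ?_⟩
        · have := PairTrick.conj_mem_invol h.1 c⁻¹
          simpa [mul_assoc] using this
        · rw [← hρ] at h
          exact mul_left_cancel (mul_right_cancel h.2)
    have h24 : ∀ σ, Equiv.Perm.sign σ = -1 → n σ = 24 := by
      intro σ hσ
      rw [Finset.card_eq_sum_card_fiberwise (f := π)
        (t := Finset.univ.filter fun τ : S3 => Equiv.Perm.sign τ = -1)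
        (fun s hs => Finset.mem_filter.mpr ⟨Finset.mem_univ _, (Finset.mem_filter.mp hs).2⟩)] at h72
      have he : ∀ τ ∈ Finset.univ.filter (fun τ : S3 => Equiv.Perm.sign τ = -1),
          (((PairTrick.invol H).filter fun s => Equiv.Perm.sign (π s) = -1).filter
            fun s => π s = τ).card = n σ := by
        intro τ hτ
        rw [← hodd τ σ (Finset.mem_filter.mp hτ).2 hσ, hn]
        congr 1
        ext s
        simp only [Finset.mem_filter]
        exact ⟨fun h => ⟨h.1.1, h.2⟩,
          fun h => ⟨⟨h.1, by rw [h.2]; exact (Finset.mem_filter.mp hτ).2⟩, h.2⟩⟩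
      rw [Finset.sum_congr rfl he, Finset.sum_const, odd_card, smul_eq_mul] at h72
      omega
    have hdec : ∀ σ, (n σ : ℤ) = (n 1 : ℤ) * wOne σ + 24 * wOdd σ := by
      intro σ
      by_cases h0 : n σ = 0
      · by_cases h1 : σ = 1
        · subst h1; simp [wOne, wOdd, h0]
        · have hs : Equiv.Perm.sign σ = 1 := (Int.units_eq_one_or _).resolve_right fun h => by
            have := h24 σ h; omega
          simp [wOne, wOdd, h1, hs, h0]
      · obtain ⟨s, hs⟩ := Finset.card_pos.mp (Nat.pos_of_ne_zero h0)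
        obtain ⟨hs1, hs2⟩ := Finset.mem_filter.mp hs
        rcases invol_cases σ (by rw [← hs2, ← map_mul, (PairTrick.mem_invol.mp hs1).2, map_one])
          with rfl | h
        · simp [wOne, wOdd]
        · have h1 : σ ≠ 1 := by rintro rfl; simp at h
          simp [wOne, wOdd, h1, h, h24 σ h]
    have e1 : ∀ F : S3 → ℂ, ∑ s ∈ PairTrick.invol H, F (π s) = ∑ σ, (n σ : ℂ) * F σ := by
      intro F
      rw [← Finset.sum_fiberwise' (PairTrick.invol H) π F]
      simp only [Finset.sum_const, nsmul_eq_mul, hn]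
    have e2 : ∑ s ∈ PairTrick.invol H, ∑ t ∈ PairTrick.invol H, thetaH π (s * t) =
        ((∑ σ, ∑ τ, (n σ : ℤ) * (n τ : ℤ) * thetaS3 (σ * τ) : ℤ) : ℂ) := by
      simp only [thetaH, map_mul]
      rw [e1 fun σ => ∑ t ∈ PairTrick.invol H, (thetaS3 (σ * π t) : ℂ)]
      push_cast
      refine Finset.sum_congr rfl fun σ _ => ?_
      rw [e1 fun τ => (thetaS3 (σ * τ) : ℂ), Finset.mul_sum]
      exact Finset.sum_congr rfl fun τ _ => by ring
    obtain ⟨p1, p2, p3, p4⟩ := pair_thetaS3
    rw [e2]
    have : ∑ σ, ∑ τ, (n σ : ℤ) * (n τ : ℤ) * thetaS3 (σ * τ) = 10368 := by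
      generalize (n 1 : ℤ) = a at hdec
      simp only [hdec]
      calc ∑ σ, ∑ τ, (a * wOne σ + 24 * wOdd σ) * (a * wOne τ + 24 * wOdd τ) * thetaS3 (σ * τ)
          = a * a * ∑ σ : S3, ∑ τ : S3, wOne σ * wOne τ * thetaS3 (σ * τ)
            + 24 * a * ∑ σ : S3, ∑ τ : S3, wOne σ * wOdd τ * thetaS3 (σ * τ)
            + 24 * a * ∑ σ : S3, ∑ τ : S3, wOdd σ * wOne τ * thetaS3 (σ * τ)
            + 576 * ∑ σ : S3, ∑ τ : S3, wOdd σ * wOdd τ * thetaS3 (σ * τ) := by
              simp only [Finset.mul_sum, ← Finset.sum_add_distrib]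
              exact Finset.sum_congr rfl fun σ _ => Finset.sum_congr rfl fun τ _ => by ring
        _ = 10368 := by rw [p1, p2, p3, p4]; ring
    rw [this]; norm_num

/-- The exceptional case in terms of a map onto `S_3`. -/
theorem ExcData.false_of_map [Finite G] {z : G} {P : Subgroup G} (D : ExcData z H P)
    (hπ : Function.Surjective π)
    (h72 : Nat.card {s : H // s * s = 1 ∧ Equiv.Perm.sign (π s) = -1} = 72) : False := by
  classical
  refine D.false_of_theta (theta_of_map π hπ D.card_H ?_)
  rw [← h72, Nat.card_eq_fintype_card, Fintype.card_subtype]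
  congr 1
  ext s
  simp only [Finset.mem_filter, Finset.mem_univ, true_and, PairTrick.mem_invol]
  exact ⟨fun h => ⟨h.1.2, h.2⟩, fun h => ⟨⟨fun h1 => by simp [h1] at h, h.1⟩, h.2⟩⟩

end CfsgLib.Recog.G23
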